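import Mathlib.NumberTheory.ModularForms.JacobiTheta.TwoVariable
import Mathlib.Analysis.Matrix.PosDef
import Mathlib.LinearAlgebra.Matrix.PosDef

/-!
# The functional equation of the theta series of a positive definite quadratic form

By induction on the number of variables from the functional equation of the two-variable Jacobi
theta function (Poisson summation in one variable).
-/

set_option autoImplicit false

namespace CfsgLib.Theta

open Complex Matrix Real

open scoped ComplexOrder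

/-- A real quadratic form, extended to complex arguments. -/
noncomputable def qf {n : ℕ} (B : Matrix (Fin n) (Fin n) ℝ) (v : Fin n → ℂ) : ℂ :=
  ∑ i, ∑ j, v i * (B i j : ℂ) * v j

/-- The real quadratic form. -/
noncomputable def rqf {n : ℕ} (B : Matrix (Fin n) (Fin n) ℝ) (v : Fin n → ℝ) : ℝ :=
  ∑ i, ∑ j, v i * B i j * v j

theorem qf_ofReal {n : ℕ} (B : Matrix (Fin n) (Fin n) ℝ) (v : Fin n → ℝ) :
    qf B (fun i => (v i : ℂ)) = (rqf B v : ℂ) := by
  simp [qf, rqf]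

theorem qf_intCast {n : ℕ} (B : Matrix (Fin n) (Fin n) ℝ) (x : Fin n → ℤ) :
    qf B (fun i => (x i : ℂ)) = (rqf B (fun i => (x i : ℝ)) : ℂ) := by
  simp [qf, rqf]

theorem rqf_eq_dot {n : ℕ} (B : Matrix (Fin n) (Fin n) ℝ) (v : Fin n → ℝ) :
    rqf B v = star v ⬝ᵥ (B *ᵥ v) := by
  simp [rqf, dotProduct, mulVec, Finset.mul_sum, mul_assoc]

theorem rqf_pos {n : ℕ} {B : Matrix (Fin n) (Fin n) ℝ} (hB : B.PosDef) {v : Fin n → ℝ} (hv : v ≠ 0) :
    0 < rqf B v := by
  rw [rqf_eq_dot]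
  exact hB.dotProduct_mulVec_pos hv

theorem symm_apply {n : ℕ} {B : Matrix (Fin n) (Fin n) ℝ} (hB : B.PosDef) (i j : Fin n) : B i j = B j i := by
  simpa using (congrFun (congrFun hB.1 i) j).symm

/-- A lower bound by the sum of squares. -/
theorem exists_lower {n : ℕ} {B : Matrix (Fin n) (Fin n) ℝ} (hB : B.PosDef) :
    ∃ δ : ℝ, 0 < δ ∧ ∀ v : Fin n → ℝ, δ * ∑ i, v i ^ 2 ≤ rqf B v := by
  rcases Nat.eq_zero_or_pos n with rfl | hn
  · exact ⟨1, one_pos, fun v => by simp [rqf]⟩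
  haveI : Nonempty (Fin n) := ⟨⟨0, hn⟩⟩
  have hne : (Metric.sphere (0 : Fin n → ℝ) 1).Nonempty := NormedSpace.sphere_nonempty.2 zero_le_one
  have hc : Continuous (rqf B) := by unfold rqf; fun_prop
  obtain ⟨u, hu, hmin⟩ := (isCompact_sphere (0 : Fin n → ℝ) 1).exists_isMinOn hne hc.continuousOn
  have hu0 : u ≠ 0 := fun e => by simp [e] at hu
  have hn' : (0 : ℝ) < n := Nat.cast_pos.2 hn
  refine ⟨rqf B u / n, div_pos (rqf_pos hB hu0) hn', fun v => ?_⟩
  rcases eq_or_ne v 0 with rfl | hv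
  · simp [rqf]
  have hnv : 0 < ‖v‖ := norm_pos_iff.2 hv
  have h1 : rqf B u ≤ rqf B (‖v‖⁻¹ • v) := hmin (show ‖v‖⁻¹ • v ∈ Metric.sphere (0 : Fin n → ℝ) 1 by
    rw [mem_sphere_zero_iff_norm, norm_smul, norm_inv, norm_norm, inv_mul_cancel₀ hnv.ne'])
  have h2 : rqf B (‖v‖⁻¹ • v) = (‖v‖⁻¹) ^ 2 * rqf B v := by
    simp only [rqf, Pi.smul_apply, smul_eq_mul, Finset.mul_sum]
    exact Finset.sum_congr rfl fun i _ => Finset.sum_congr rfl fun j _ => by ring
  have h3 : ∑ i, v i ^ 2 ≤ n * ‖v‖ ^ 2 := by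
    calc ∑ i, v i ^ 2 ≤ ∑ _i : Fin n, ‖v‖ ^ 2 := Finset.sum_le_sum fun i _ => by
          rw [← sq_abs (v i)]
          have := norm_le_pi_norm v i
          rw [Real.norm_eq_abs] at this
          gcongr
      _ = n * ‖v‖ ^ 2 := by simp
  have h4 : rqf B u * ‖v‖ ^ 2 ≤ rqf B v := by
    rw [h2, inv_pow, ← div_eq_inv_mul, le_div_iff₀ (by positivity)] at h1
    exact h1
  calc rqf B u / n * ∑ i, v i ^ 2 ≤ rqf B u / n * (n * ‖v‖ ^ 2) :=
        mul_le_mul_of_nonneg_left h3 (div_pos (rqf_pos hB hu0) hn').le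
    _ = rqf B u * ‖v‖ ^ 2 := by field_simp
    _ ≤ rqf B v := h4

/-- A product of one summable nonnegative function over the coordinates is summable. -/
theorem summable_pi_prod {g : ℤ → ℝ} (hg : Summable g) (h0 : ∀ m, 0 ≤ g m) :
    ∀ n : ℕ, Summable fun x : Fin n → ℤ => ∏ i, g (x i) := by
  intro n
  induction n with
  | zero => exact Summable.of_finite
  | succ n ih =>
    rw [← (Fin.consEquiv fun _ : Fin (n + 1) => ℤ).summable_iff]
    have : (fun x : Fin (n + 1) → ℤ => ∏ i, g (x i)) ∘ (Fin.consEquiv fun _ : Fin (n + 1) => ℤ) =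
        fun p : ℤ × (Fin n → ℤ) => g p.1 * ∏ i, g (p.2 i) := by
      funext p
      simp [Fin.prod_univ_succ, Fin.consEquiv]
    rw [this]
    exact Summable.mul_of_nonneg (f := g) (g := fun x : Fin n → ℤ => ∏ i, g (x i)) hg ih (fun m => h0 m)
      (fun x => Finset.prod_nonneg fun i _ => h0 _)

/-- A term of the theta series. -/
noncomputable def term {n : ℕ} (B : Matrix (Fin n) (Fin n) ℝ) (τ : ℂ) (z : Fin n → ℂ) (x : Fin n → ℤ) : ℂ :=
  cexp (π * I * τ * qf B (fun i => (x i : ℂ)) + 2 * π * I * ∑ i, z i * x i)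

theorem norm_term {n : ℕ} (B : Matrix (Fin n) (Fin n) ℝ) (τ : ℂ) (z : Fin n → ℂ) (x : Fin n → ℤ) :
    ‖term B τ z x‖ = rexp (-π * τ.im * rqf B (fun i => (x i : ℝ)) - 2 * π * ∑ i, (z i).im * x i) := by
  rw [term, qf_intCast, Complex.norm_exp]
  congr 1
  simp [Complex.add_re, Complex.mul_re, Complex.mul_im, Finset.mul_sum, sub_eq_add_neg]

theorem norm_term_le {n : ℕ} {B : Matrix (Fin n) (Fin n) ℝ} {δ : ℝ} (hδ0 : 0 < δ)
    (hδ : ∀ v : Fin n → ℝ, δ * ∑ i, v i ^ 2 ≤ rqf B v) {T S : ℝ} (hT : 0 < T) {τ : ℂ} (hτ : T ≤ τ.im)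
    {z : Fin n → ℂ} (hz : ∀ i, |(z i).im| ≤ S) (x : Fin n → ℤ) :
    ‖term B τ z x‖ ≤ ∏ i, rexp (-π * (T * δ * (x i : ℝ) ^ 2 - 2 * S * |(x i : ℤ)|)) := by
  rw [norm_term, ← Real.exp_sum, Real.exp_le_exp]
  have h1 : T * (δ * ∑ i, (x i : ℝ) ^ 2) ≤ τ.im * rqf B (fun i => (x i : ℝ)) :=
    mul_le_mul hτ (hδ _) (mul_nonneg hδ0.le (Finset.sum_nonneg fun i _ => sq_nonneg _)) (hT.le.trans hτ)
  have h2 : -∑ i, (z i).im * x i ≤ ∑ i, S * ((|(x i : ℤ)| : ℤ) : ℝ) := by
    rw [← Finset.sum_neg_distrib]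
    refine Finset.sum_le_sum fun i _ => (neg_le_abs _).trans ?_
    rw [abs_mul, Int.cast_abs]
    exact mul_le_mul_of_nonneg_right (hz i) (abs_nonneg _)
  have e : ∑ i, -π * (T * δ * (x i : ℝ) ^ 2 - 2 * S * ((|(x i : ℤ)| : ℤ) : ℝ)) =
      -π * (T * (δ * ∑ i, (x i : ℝ) ^ 2)) + 2 * π * ∑ i, S * ((|(x i : ℤ)| : ℤ) : ℝ) := by
    rw [Finset.mul_sum, Finset.mul_sum, Finset.mul_sum, Finset.mul_sum, ← Finset.sum_add_distrib]
    exact Finset.sum_congr rfl fun i _ => by ring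
  rw [e]
  have m1 := mul_le_mul_of_nonneg_left h1 Real.pi_pos.le
  have m2 := mul_le_mul_of_nonneg_left h2 (mul_nonneg zero_le_two Real.pi_pos.le)
  linarith

theorem summable_bound {n : ℕ} {δ T : ℝ} (hδ : 0 < δ) (hT : 0 < T) (S : ℝ) :
    Summable fun x : Fin n → ℤ => ∏ i, rexp (-π * (T * δ * (x i : ℝ) ^ 2 - 2 * S * |(x i : ℤ)|)) := by
  refine summable_pi_prod (g := fun m : ℤ => rexp (-π * (T * δ * (m : ℝ) ^ 2 - 2 * S * |m|))) ?_
    (fun m => (Real.exp_pos _).le) n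
  simpa using summable_pow_mul_jacobiTheta₂_term_bound S (mul_pos hT hδ) 0

theorem summable_norm_term {n : ℕ} {B : Matrix (Fin n) (Fin n) ℝ} (hB : B.PosDef) {τ : ℂ} (hτ : 0 < τ.im)
    (z : Fin n → ℂ) : Summable fun x => ‖term B τ z x‖ := by
  obtain ⟨δ, hδ0, hδ⟩ := exists_lower hB
  exact (summable_bound hδ0 hτ (∑ i, |(z i).im|)).of_nonneg_of_le (fun _ => norm_nonneg _)
    (norm_term_le hδ0 hδ hτ le_rfl fun i =>
      Finset.single_le_sum (f := fun i => |(z i).im|) (fun j _ => abs_nonneg _) (Finset.mem_univ i))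

/-- The dual series has the shape of a theta series. -/
theorem dual_term {n : ℕ} {B : Matrix (Fin n) (Fin n) ℝ} (hB : B.PosDef) (τ : ℂ) (z : Fin n → ℂ)
    (k : Fin n → ℤ) :
    cexp (-(π * I) / τ * qf B (fun i => z i + k i)) = cexp (-(π * I) / τ * qf B z) *
      term B (-1 / τ) (fun i => -(∑ j, (B i j : ℂ) * z j) / τ) k := by
  rw [term, ← Complex.exp_add]
  congr 1
  have h1 : qf B (fun i => z i + k i) = qf B z + qf B (fun i => (k i : ℂ)) +
      2 * ∑ i, (∑ j, (B i j : ℂ) * z j) * k i := by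
    have hswap : ∑ i, ∑ j, z i * (B i j : ℂ) * (k j : ℂ) = ∑ i, ∑ j, (B i j : ℂ) * z j * (k i : ℂ) := by
      rw [Finset.sum_comm]
      exact Finset.sum_congr rfl fun i _ => Finset.sum_congr rfl fun j _ => by rw [symm_apply hB j i]; ring
    have hother : ∑ i, ∑ j, (k i : ℂ) * (B i j : ℂ) * z j = ∑ i, ∑ j, (B i j : ℂ) * z j * (k i : ℂ) :=
      Finset.sum_congr rfl fun i _ => Finset.sum_congr rfl fun j _ => by ring
    simp only [qf, Finset.sum_mul, add_mul, mul_add, Finset.sum_add_distrib, hswap, hother]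
    ring
  rw [h1]
  have h2 : ∑ i, -(∑ j, (B i j : ℂ) * z j) / τ * (k i : ℂ) = -(∑ i, (∑ j, (B i j : ℂ) * z j) * k i) / τ := by
    rw [neg_div, Finset.sum_div, ← Finset.sum_neg_distrib]
    exact Finset.sum_congr rfl fun i _ => by ring
  rw [h2]
  ring

theorem im_neg_one_div {τ : ℂ} (hτ : 0 < τ.im) : 0 < (-1 / τ).im := by
  rw [neg_div, neg_im, one_div, inv_im, neg_div, neg_neg]
  exact div_pos hτ (normSq_pos.2 fun e => by simp [e] at hτ)

theorem summable_dual {n : ℕ} {B : Matrix (Fin n) (Fin n) ℝ} (hB : B.PosDef) {τ : ℂ} (hτ : 0 < τ.im)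
    (z : Fin n → ℂ) : Summable fun k : Fin n → ℤ => cexp (-(π * I) / τ * qf B (fun i => z i + k i)) := by
  simp only [dual_term hB]
  exact ((summable_norm_term hB (im_neg_one_div hτ) _).of_norm).mul_left _

/-- The square root of a positive multiple. -/
theorem cpow_half_mul {a : ℝ} (ha : 0 < a) (w : ℂ) :
    ((a : ℂ) * w) ^ (1 / 2 : ℂ) = (a : ℂ) ^ (1 / 2 : ℂ) * w ^ (1 / 2 : ℂ) := by
  rcases eq_or_ne w 0 with rfl | hw
  · simp
  have ha' : (a : ℂ) ≠ 0 := Complex.ofReal_ne_zero.2 ha.ne'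
  rw [cpow_def_of_ne_zero (mul_ne_zero ha' hw), cpow_def_of_ne_zero ha', cpow_def_of_ne_zero hw,
    ← Complex.exp_add, Complex.log_ofReal_mul ha hw, Complex.ofReal_log ha.le, add_mul]

section Schur

variable {n : ℕ} {B : Matrix (Fin (n + 1)) (Fin (n + 1)) ℝ}

/-- The first row, normalised. -/
noncomputable def ratio (B : Matrix (Fin (n + 1)) (Fin (n + 1)) ℝ) (j : Fin n) : ℝ := B 0 j.succ / B 0 0

/-- The Schur complement of the first entry. -/
noncomputable def schur (B : Matrix (Fin (n + 1)) (Fin (n + 1)) ℝ) : Matrix (Fin n) (Fin n) ℝ :=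
  fun i j => B i.succ j.succ - B 0 0 * ratio B i * ratio B j

theorem diag_zero_pos (hB : B.PosDef) : 0 < B 0 0 := hB.diag_pos

theorem qf_cons (hB : B.PosDef) (v : Fin (n + 1) → ℂ) :
    qf B v = (B 0 0 : ℂ) * (v 0 + ∑ j, (ratio B j : ℂ) * v j.succ) ^ 2 + qf (schur B) (fun j => v j.succ) := by
  have ha : (B 0 0 : ℂ) ≠ 0 := Complex.ofReal_ne_zero.2 (diag_zero_pos hB).ne'
  have hr : ∀ j : Fin n, (B 0 0 : ℂ) * (ratio B j : ℂ) = (B 0 j.succ : ℂ) := fun j => by
    rw [ratio, Complex.ofReal_div, mul_div_cancel₀ _ ha]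
  have hsq : (∑ j, (ratio B j : ℂ) * v j.succ) ^ 2 =
      ∑ i, ∑ j, (ratio B i : ℂ) * v i.succ * ((ratio B j : ℂ) * v j.succ) := by
    rw [sq, Finset.sum_mul_sum]
  have e1 : qf (schur B) (fun j => v j.succ) = (∑ i : Fin n, ∑ j : Fin n, v i.succ * (B i.succ j.succ : ℂ) * v j.succ) -
      (B 0 0 : ℂ) * (∑ j, (ratio B j : ℂ) * v j.succ) ^ 2 := by
    rw [hsq, Finset.mul_sum, ← Finset.sum_sub_distrib]
    refine Finset.sum_congr rfl fun i _ => ?_
    rw [Finset.mul_sum, ← Finset.sum_sub_distrib]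
    refine Finset.sum_congr rfl fun j _ => ?_
    simp only [schur]
    push_cast
    ring
  have e2 : ∀ j : Fin n, v 0 * (B 0 j.succ : ℂ) * v j.succ = (B 0 0 : ℂ) * v 0 * ((ratio B j : ℂ) * v j.succ) :=
    fun j => by rw [← hr j]; ring
  have e3 : ∀ i : Fin n, v i.succ * (B i.succ 0 : ℂ) * v 0 = (B 0 0 : ℂ) * v 0 * ((ratio B i : ℂ) * v i.succ) :=
    fun i => by rw [symm_apply hB i.succ 0, ← hr i]; ring
  have e4 : qf B v = v 0 * (B 0 0 : ℂ) * v 0 + 2 * ((B 0 0 : ℂ) * v 0 * ∑ j, (ratio B j : ℂ) * v j.succ) +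
      ∑ i : Fin n, ∑ j : Fin n, v i.succ * (B i.succ j.succ : ℂ) * v j.succ := by
    rw [qf, Fin.sum_univ_succ]
    simp only [Fin.sum_univ_succ, Finset.sum_add_distrib, e2, e3, ← Finset.mul_sum]
    ring
  rw [e4, e1]
  ring

theorem schur_posDef (hB : B.PosDef) : (schur B).PosDef := by
  refine Matrix.PosDef.of_dotProduct_mulVec_pos ?_ fun {y} hy => ?_
  · ext i j
    simp only [conjTranspose_apply, star_trivial, schur]
    rw [symm_apply hB j.succ i.succ]
    ring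
  · rw [← rqf_eq_dot]
    let v : Fin (n + 1) → ℝ := Fin.cons (-∑ j, ratio B j * y j) y
    have hv : v ≠ 0 := fun e => hy (funext fun j => by simpa [v] using congrFun e j.succ)
    have h := rqf_pos hB hv
    have h2 : (rqf B v : ℂ) = (rqf (schur B) y : ℂ) := by
      rw [← qf_ofReal, qf_cons hB, ← qf_ofReal]
      simp [v]
    rwa [Complex.ofReal_inj.1 h2] at h

/-- The dual form splits accordingly. -/
theorem qf_inv_cons (hB : B.PosDef) (w : Fin (n + 1) → ℂ) :
    qf B⁻¹ w = w 0 ^ 2 / (B 0 0 : ℂ) + qf (schur B)⁻¹ (fun j => w j.succ - w 0 * (ratio B j : ℂ)) := by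
  have ha : (B 0 0 : ℂ) ≠ 0 := Complex.ofReal_ne_zero.2 (diag_zero_pos hB).ne'
  have key : ∀ {m : ℕ} {M : Matrix (Fin m) (Fin m) ℝ}, M.PosDef → ∀ v : Fin m → ℂ,
      qf M⁻¹ (M.map Complex.ofReal *ᵥ v) = qf M v := by
    intro m M hM v
    have hq : ∀ (A : Matrix (Fin m) (Fin m) ℝ) (u : Fin m → ℂ), qf A u = u ⬝ᵥ (A.map Complex.ofReal *ᵥ u) := by
      intro A u
      simp [qf, dotProduct, mulVec, Finset.mul_sum, mul_assoc]
    have hinv : M⁻¹.map Complex.ofReal * M.map Complex.ofReal = 1 := by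
      rw [show (Complex.ofReal : ℝ → ℂ) = ⇑Complex.ofRealHom from rfl, ← Matrix.map_mul, Matrix.nonsing_inv_mul M (Matrix.isUnit_iff_isUnit_det M |>.1 hM.isUnit)]
      simp
    rw [hq, hq, Matrix.mulVec_mulVec, hinv, Matrix.one_mulVec, dotProduct_comm]
  obtain ⟨v, rfl⟩ : ∃ v, B.map Complex.ofReal *ᵥ v = w := by
    refine ⟨B⁻¹.map Complex.ofReal *ᵥ w, ?_⟩
    rw [Matrix.mulVec_mulVec, show (Complex.ofReal : ℝ → ℂ) = ⇑Complex.ofRealHom from rfl, ← Matrix.map_mul,
      Matrix.mul_nonsing_inv B (Matrix.isUnit_iff_isUnit_det B |>.1 hB.isUnit)]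
    simp
  have hw0 : (B.map Complex.ofReal *ᵥ v) 0 = (B 0 0 : ℂ) * (v 0 + ∑ j, (ratio B j : ℂ) * v j.succ) := by
    simp only [mulVec, dotProduct, Matrix.map_apply, Fin.sum_univ_succ, mul_add, Finset.mul_sum]
    congr 1
    refine Finset.sum_congr rfl fun j _ => ?_
    rw [ratio, Complex.ofReal_div]
    field_simp
  have hw1 : (fun j : Fin n => (B.map Complex.ofReal *ᵥ v) j.succ - (B.map Complex.ofReal *ᵥ v) 0 * (ratio B j : ℂ)) =
      (schur B).map Complex.ofReal *ᵥ fun j => v j.succ := by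
    funext i
    rw [hw0]
    simp only [mulVec, dotProduct, Matrix.map_apply, Fin.sum_univ_succ, schur]
    push_cast
    simp only [sub_mul, Finset.sum_sub_distrib, mul_add, add_mul, Finset.mul_sum, Finset.sum_mul]
    rw [symm_apply hB i.succ 0, show (B 0 0 : ℂ) * v 0 * (ratio B i : ℂ) = (B 0 i.succ : ℂ) * v 0 by
      rw [ratio, Complex.ofReal_div]; field_simp]
    have : ∑ j : Fin n, (B 0 0 : ℂ) * ((ratio B j : ℂ) * v j.succ) * (ratio B i : ℂ) =
        ∑ j : Fin n, (B 0 0 : ℂ) * (ratio B i : ℂ) * (ratio B j : ℂ) * v j.succ :=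
      Finset.sum_congr rfl fun j _ => by ring
    rw [this]
    ring
  rw [key hB, qf_cons hB, hw1, key (schur_posDef hB), hw0]
  field_simp

end Schur

/-- The functional equation. -/
theorem functional_equation : ∀ (n : ℕ) (B : Matrix (Fin n) (Fin n) ℝ), B.PosDef → ∃ c : ℂ,
    ∀ τ : ℂ, 0 < τ.im → ∀ z : Fin n → ℂ, ∑' x, term B τ z x =
      c / ((-I * τ) ^ (1 / 2 : ℂ)) ^ n *
        ∑' k : Fin n → ℤ, cexp (-(π * I) / τ * qf B⁻¹ (fun i => z i + k i)) := by
  intro n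
  induction n with
  | zero =>
    intro B _
    refine ⟨1, fun τ _ z => ?_⟩
    rw [tsum_eq_single 0 (fun x hx => absurd (Subsingleton.elim x 0) hx),
      tsum_eq_single 0 (fun x hx => absurd (Subsingleton.elim x 0) hx)]
    simp [term, qf]
  | succ n ih =>
    intro B hB
    obtain ⟨c, hc⟩ := ih (schur B) (schur_posDef hB)
    have ha := diag_zero_pos hB
    refine ⟨c / (B 0 0 : ℂ) ^ (1 / 2 : ℂ), fun τ hτ z => ?_⟩
    set a : ℂ := (B 0 0 : ℂ) with hadef
    have ha' : a ≠ 0 := Complex.ofReal_ne_zero.2 ha.ne'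
    have hτ0 : τ ≠ 0 := fun e => by simp [e] at hτ
    have hati : 0 < (a * τ).im := by rw [hadef, Complex.im_ofReal_mul]; exact mul_pos ha hτ
    set K : ℂ := 1 / (-I * (a * τ)) ^ (1 / 2 : ℂ) with hK
    let z' : Fin n → ℂ := fun j => z j.succ
    let G : ℤ → (Fin n → ℤ) → ℂ := fun k x => cexp (-(π * I) / (a * τ) * (z 0 + k) ^ 2) *
      term (schur B) τ (fun j => z' j - (z 0 + k) * (ratio B j : ℂ)) x
    -- the inner sums
    have hinner : ∀ x : Fin n → ℤ, ∑' m : ℤ, term B τ z (Fin.cons m x) = K * ∑' k : ℤ, G k x := by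
      intro x
      set L : ℂ := ∑ j, (ratio B j : ℂ) * (x j : ℂ) with hL
      have h1 : ∀ m : ℤ, term B τ z (Fin.cons m x) =
          cexp (π * I * τ * (qf (schur B) (fun j => (x j : ℂ)) + a * L ^ 2) + 2 * π * I * ∑ j, z' j * x j) *
            jacobiTheta₂_term m (z 0 + a * τ * L) (a * τ) := by
        intro m
        rw [term, jacobiTheta₂_term, ← Complex.exp_add, qf_cons hB, Fin.sum_univ_succ]
        congr 1
        simp only [Fin.cons_zero, Fin.cons_succ, z', ← hL, ← hadef]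
        ring
      have h2 : ∀ k : ℤ, cexp (π * I * τ * (qf (schur B) (fun j => (x j : ℂ)) + a * L ^ 2) + 2 * π * I * ∑ j, z' j * x j) *
          (cexp (-π * I * (z 0 + a * τ * L) ^ 2 / (a * τ)) *
            jacobiTheta₂_term (-k) ((z 0 + a * τ * L) / (a * τ)) (-1 / (a * τ))) = G k x := by
        intro k
        simp only [G, term, jacobiTheta₂_term, ← Complex.exp_add]
        congr 1
        have e : ∑ j, (z' j - (z 0 + k) * (ratio B j : ℂ)) * (x j : ℂ) = (∑ j, z' j * x j) - (z 0 + k) * L := by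
          rw [hL, Finset.mul_sum, ← Finset.sum_sub_distrib]
          exact Finset.sum_congr rfl fun j _ => by ring
        rw [e]
        push_cast
        field_simp
        ring
      rw [tsum_congr h1, tsum_mul_left,
        show ∑' m, jacobiTheta₂_term m (z 0 + a * τ * L) (a * τ) = jacobiTheta₂ (z 0 + a * τ * L) (a * τ) from rfl,
        jacobiTheta₂_functional_equation, jacobiTheta₂, ← (Equiv.neg ℤ).tsum_eq, ← hK]
      rw [mul_assoc K, mul_left_comm, ← tsum_mul_left, ← tsum_mul_left]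
      congr 1
      exact tsum_congr fun k => h2 k
    -- both orders of summation
    have hG : Summable fun p : ℤ × (Fin n → ℤ) => G p.1 p.2 := by
      have hA : Summable fun k : ℤ => ‖cexp (-(π * I) / (a * τ) * (z 0 + k) ^ 2)‖ := by
        have : ∀ k : ℤ, cexp (-(π * I) / (a * τ) * (z 0 + k) ^ 2) = cexp (-(π * I) / (a * τ) * z 0 ^ 2) *
            jacobiTheta₂_term k (-z 0 / (a * τ)) (-1 / (a * τ)) := by
          intro k
          rw [jacobiTheta₂_term, ← Complex.exp_add]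
          congr 1
          ring
        simp only [this, norm_mul]
        exact (((summable_jacobiTheta₂_term_iff _ _).2 (im_neg_one_div hati)).norm).mul_left _
      refine Summable.of_norm ((hA.mul_of_nonneg (summable_norm_term (schur_posDef hB) hτ
        (fun j => z' j - z 0 * (ratio B j : ℂ))) (fun _ => norm_nonneg _) (fun _ => norm_nonneg _)).congr
          fun p => ?_)
      rw [norm_mul, norm_term, norm_term]
      congr 2
      simp [Complex.mul_im, Complex.add_im, Complex.add_re]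
    have hT : Summable fun p : ℤ × (Fin n → ℤ) => term B τ z (Fin.cons p.1 p.2) :=
      ((Fin.consEquiv fun _ : Fin (n + 1) => ℤ).summable_iff.2 (summable_norm_term hB hτ z).of_norm :)
    have hD : Summable fun p : ℤ × (Fin n → ℤ) =>
        cexp (-(π * I) / τ * qf B⁻¹ (fun i => z i + (Fin.cons p.1 p.2 : Fin (n + 1) → ℤ) i)) :=
      ((Fin.consEquiv fun _ : Fin (n + 1) => ℤ).summable_iff.2 (summable_dual hB.inv hτ z) :)
    rw [← (Fin.consEquiv fun _ : Fin (n + 1) => ℤ).tsum_eq,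
      ← (Fin.consEquiv fun _ : Fin (n + 1) => ℤ).tsum_eq
        (fun k => cexp (-(π * I) / τ * qf B⁻¹ (fun i => z i + k i)))]
    show ∑' p : ℤ × (Fin n → ℤ), term B τ z (Fin.cons p.1 p.2) = _ * ∑' p : ℤ × (Fin n → ℤ),
      cexp (-(π * I) / τ * qf B⁻¹ (fun i => z i + (Fin.cons p.1 p.2 : Fin (n + 1) → ℤ) i))
    rw [hT.tsum_prod, ← Summable.tsum_comm (f := fun k x => term B τ z (Fin.cons k x)) hT, tsum_congr hinner, tsum_mul_left, Summable.tsum_comm (f := G) hG, hD.tsum_prod,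
      ← tsum_mul_left, ← tsum_mul_left]
    refine tsum_congr fun k => ?_
    have hsplit : ∀ k' : Fin n → ℤ,
        cexp (-(π * I) / τ * qf B⁻¹ (fun i => z i + (Fin.cons k k' : Fin (n + 1) → ℤ) i)) =
          cexp (-(π * I) / (a * τ) * (z 0 + k) ^ 2) * cexp (-(π * I) / τ *
            qf (schur B)⁻¹ (fun j => z' j - (z 0 + k) * (ratio B j : ℂ) + k' j)) := by
      intro k'
      rw [← Complex.exp_add, qf_inv_cons hB]
      congr 1
      simp only [Fin.cons_zero, Fin.cons_succ, z', add_sub_right_comm, ← hadef]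
      field_simp
      ring
    rw [tsum_congr hsplit, tsum_mul_left]
    rw [tsum_mul_left, hc τ hτ]
    rw [hK, show -I * (a * τ) = a * (-I * τ) by ring, hadef, cpow_half_mul ha, pow_succ]
    simp only [div_eq_mul_inv, mul_inv]
    ring

end CfsgLib.Theta
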