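import Mathlib.NumberTheory.ModularForms.LevelOne.DimensionFormula
import Mathlib.NumberTheory.ModularForms.EisensteinSeries.QExpansion
import Cfsg.Agent.Lib.Theta.Poisson

/-!
# The theta series of an even unimodular lattice of rank 24

It is a modular form of weight 12 and level one, so it is fixed by its first two coefficients.
-/

set_option autoImplicit false

namespace CfsgLib.Theta

open Complex Matrix Real ModularForm ModularFormClass MatrixGroups EisensteinSeries

open UpperHalfPlane hiding I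

open scoped ComplexOrder

theorem rqf_inv_mulVec {n : ℕ} {M : Matrix (Fin n) (Fin n) ℝ} (hM : M.PosDef) (v : Fin n → ℝ) :
    rqf M⁻¹ (M *ᵥ v) = rqf M v := by
  rw [rqf_eq_dot, rqf_eq_dot, star_trivial, star_trivial, Matrix.mulVec_mulVec,
    Matrix.nonsing_inv_mul _ ((Matrix.isUnit_iff_isUnit_det M).1 hM.isUnit), Matrix.one_mulVec, dotProduct_comm]

theorem intCast_mulVec {n : ℕ} (G : Matrix (Fin n) (Fin n) ℤ) (v : Fin n → ℤ) :
    (fun i => (((G *ᵥ v) i : ℤ) : ℝ)) = (Matrix.of fun i j => (G i j : ℝ)) *ᵥ fun i => (v i : ℝ) := by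
  funext i
  simp [mulVec, dotProduct]

theorem sqrt_pow_twentyFour (σ : ℂ) : ((-I * σ) ^ (1 / 2 : ℂ)) ^ 24 = σ ^ 12 := by
  have h : ((-I * σ) ^ (1 / 2 : ℂ)) ^ 2 = -I * σ := by
    rw [show (1 / 2 : ℂ) = ((2 : ℕ) : ℂ)⁻¹ by norm_num, Complex.cpow_nat_inv_pow _ two_ne_zero]
  rw [pow_mul ((-I * σ) ^ (1 / 2 : ℂ)) 2 12, h, mul_pow, Even.neg_pow ⟨6, rfl⟩,
    pow_mul I 4 3, I_pow_four, one_pow, one_mul]

/-- An even unimodular positive definite form in 24 variables. -/
structure EvenUnimodular where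
  /-- The Gram matrix. -/
  gram : Matrix (Fin 24) (Fin 24) ℤ
  symm : gram.IsSymm
  pos : ∀ x : Fin 24 → ℤ, x ≠ 0 → 0 < x ⬝ᵥ (gram *ᵥ x)
  even : ∀ x : Fin 24 → ℤ, (2 : ℤ) ∣ x ⬝ᵥ (gram *ᵥ x)
  det : gram.det = 1

namespace EvenUnimodular

variable (Λ : EvenUnimodular)

/-- The real Gram matrix. -/
noncomputable def real : Matrix (Fin 24) (Fin 24) ℝ := fun i j => (Λ.gram i j : ℝ)

theorem rqf_real (x : Fin 24 → ℤ) :
    rqf Λ.real (fun i => (x i : ℝ)) = ((x ⬝ᵥ (Λ.gram *ᵥ x) : ℤ) : ℝ) := by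
  simp only [rqf, real, dotProduct, mulVec, Int.cast_sum, Int.cast_mul, Finset.mul_sum]
  exact Finset.sum_congr rfl fun i _ => Finset.sum_congr rfl fun j _ => by ring

theorem rqf_real_nonneg (v : Fin 24 → ℝ) : 0 ≤ rqf Λ.real v := by
  have hcl : IsClosed {v : Fin 24 → ℝ | 0 ≤ rqf Λ.real v} :=
    isClosed_le continuous_const (by unfold rqf; fun_prop)
  have hd : DenseRange (Pi.map fun _ : Fin 24 => ((↑) : ℚ → ℝ)) := DenseRange.piMap fun _ => Rat.denseRange_cast
  refine hd.induction_on v hcl fun q => ?_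
  set N : ℕ := ∏ i, (q i).den with hN
  have hN0 : (N : ℝ) ≠ 0 := Nat.cast_ne_zero.2 (Finset.prod_ne_zero_iff.2 fun i _ => (q i).den_ne_zero)
  let x : Fin 24 → ℤ := fun i => (q i).num * ((∏ j ∈ Finset.univ.erase i, (q j).den : ℕ) : ℤ)
  have hx : ∀ i, ((x i : ℤ) : ℝ) = N * (q i : ℝ) := by
    intro i
    have e : N = (q i).den * ∏ j ∈ Finset.univ.erase i, (q j).den :=
      (Finset.mul_prod_erase Finset.univ (fun j => (q j).den) (Finset.mem_univ i)).symm
    have hd' : ((q i).den : ℝ) ≠ 0 := Nat.cast_ne_zero.2 (q i).den_ne_zero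
    rw [e, Rat.cast_def]
    simp only [x]
    push_cast
    field_simp
  have h : 0 ≤ rqf Λ.real (fun i => (x i : ℝ)) := by
    rw [rqf_real]
    rcases eq_or_ne x 0 with e | e
    · simp [e]
    · exact_mod_cast (Λ.pos x e).le
  have e : rqf Λ.real (fun i => (x i : ℝ)) = (N : ℝ) ^ 2 * rqf Λ.real (fun i => (q i : ℝ)) := by
    simp only [rqf, hx, Finset.mul_sum]
    exact Finset.sum_congr rfl fun i _ => Finset.sum_congr rfl fun j _ => by ring
  rw [e] at h
  exact nonneg_of_mul_nonneg_right h (by positivity)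

theorem det_real : Λ.real.det = 1 := by
  have : Λ.real = (Int.castRingHom ℝ).mapMatrix Λ.gram := rfl
  rw [this, ← RingHom.map_det, Λ.det, map_one]

theorem real_posDef : Λ.real.PosDef := by
  have hsd : Λ.real.PosSemidef := by
    refine Matrix.PosSemidef.of_dotProduct_mulVec_nonneg ?_ fun v => ?_
    · ext i j
      simp only [conjTranspose_apply, star_trivial, real]
      rw [Λ.symm.apply i j]
    · rw [← rqf_eq_dot]; exact Λ.rqf_real_nonneg v
  refine hsd.posDef_iff_isUnit.2 ?_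
  rw [Matrix.isUnit_iff_isUnit_det, det_real]
  exact isUnit_one

/-- Half the norm. -/
def height (x : Fin 24 → ℤ) : ℕ := ((x ⬝ᵥ (Λ.gram *ᵥ x)) / 2).toNat

theorem norm_eq_height (x : Fin 24 → ℤ) : x ⬝ᵥ (Λ.gram *ᵥ x) = 2 * (Λ.height x : ℤ) := by
  have h0 : 0 ≤ x ⬝ᵥ (Λ.gram *ᵥ x) := by
    rcases eq_or_ne x 0 with e | e
    · simp [e]
    · exact (Λ.pos x e).le
  rw [height, Int.toNat_of_nonneg (Int.ediv_nonneg h0 (by norm_num)), Int.mul_ediv_cancel' (Λ.even x)]

theorem height_eq_iff (x : Fin 24 → ℤ) (m : ℕ) : Λ.height x = m ↔ x ⬝ᵥ (Λ.gram *ᵥ x) = 2 * (m : ℤ) := by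
  rw [Λ.norm_eq_height x]
  omega

/-- The theta series on the complex plane. -/
noncomputable def thetaFun (τ : ℂ) : ℂ := ∑' x, term Λ.real τ 0 x

/-- The theta series on the upper half plane. -/
noncomputable def theta (τ : ℍ) : ℂ := Λ.thetaFun τ

theorem term_eq (τ : ℂ) (x : Fin 24 → ℤ) :
    term Λ.real τ 0 x = Function.Periodic.qParam 1 τ ^ Λ.height x := by
  rw [term, qf_intCast, rqf_real, Λ.norm_eq_height x, Function.Periodic.qParam, ← Complex.exp_nat_mul]
  congr 1
  simp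
  ring

theorem finite_level (m : ℕ) : {x : Fin 24 → ℤ | Λ.height x = m}.Finite := by
  obtain ⟨δ, hδ0, hδ⟩ := exists_lower Λ.real_posDef
  obtain ⟨M, hM⟩ := exists_nat_ge (2 * (m : ℝ) / δ + 1)
  refine (Set.Finite.pi (t := fun _ : Fin 24 => Set.Icc (-(M : ℤ)) M) fun _ => Set.finite_Icc _ _).subset
    fun x hx => ?_
  intro i _
  have h1 : δ * (x i : ℝ) ^ 2 ≤ 2 * m := by
    have h2 := hδ fun j => (x j : ℝ)
    rw [rqf_real, (Λ.height_eq_iff x m).1 hx] at h2
    push_cast at h2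
    exact le_trans (mul_le_mul_of_nonneg_left
      (Finset.single_le_sum (f := fun j => (x j : ℝ) ^ 2) (fun j _ => sq_nonneg _) (Finset.mem_univ i)) hδ0.le) h2
  have h3 : (x i : ℝ) ^ 2 ≤ M := by
    rw [mul_comm, ← le_div_iff₀ hδ0] at h1
    linarith
  have h4 : x i ^ 2 ≤ (M : ℤ) := by exact_mod_cast h3
  rw [Set.mem_Icc]
  have := Int.le_self_sq (x i)
  have := Int.le_self_sq (-(x i))
  constructor <;> nlinarith

theorem hasSum_theta (τ : ℍ) :
    HasSum (fun m => ({x : Fin 24 → ℤ | Λ.height x = m}.ncard : ℂ) • Function.Periodic.qParam 1 (τ : ℂ) ^ m)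
      (Λ.theta τ) := by
  have hs := ((summable_norm_term Λ.real_posDef τ.im_pos 0).of_norm).hasSum
  have hs' := (Equiv.sigmaFiberEquiv Λ.height).hasSum_iff.2 hs
  refine hs'.sigma fun m => ?_
  haveI : Fintype {x : Fin 24 → ℤ // Λ.height x = m} := (Λ.finite_level m).fintype
  have h : ∀ x : {x : Fin 24 → ℤ // Λ.height x = m},
      ((fun x => term Λ.real (τ : ℂ) 0 x) ∘ (Equiv.sigmaFiberEquiv Λ.height)) ⟨m, x⟩ =
        Function.Periodic.qParam 1 (τ : ℂ) ^ m := fun x => by
    show term Λ.real (τ : ℂ) 0 x.val = _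
    rw [term_eq, x.2]
  convert hasSum_fintype _ using 1
  rw [Finset.sum_congr rfl (fun x _ => h x), Finset.sum_const, Finset.card_univ, nsmul_eq_mul, smul_eq_mul,
    ← Nat.card_eq_fintype_card]
  rfl

theorem transform (τ : ℂ) (hτ : 0 < τ.im) : Λ.thetaFun (-1 / τ) = τ ^ 12 * Λ.thetaFun τ := by
  obtain ⟨c, hc⟩ := functional_equation 24 Λ.real Λ.real_posDef
  have hu : IsUnit Λ.gram.det := by rw [Λ.det]; exact isUnit_one
  let e : (Fin 24 → ℤ) ≃ (Fin 24 → ℤ) :=
    { toFun := fun v => Λ.gram *ᵥ v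
      invFun := fun v => Λ.gram⁻¹ *ᵥ v
      left_inv := fun v => by show Λ.gram⁻¹ *ᵥ (Λ.gram *ᵥ v) = v; rw [Matrix.mulVec_mulVec, Matrix.nonsing_inv_mul _ hu, Matrix.one_mulVec]
      right_inv := fun v => by show Λ.gram *ᵥ (Λ.gram⁻¹ *ᵥ v) = v; rw [Matrix.mulVec_mulVec, Matrix.mul_nonsing_inv _ hu, Matrix.one_mulVec] }
  have hdual : ∀ v : Fin 24 → ℤ, qf Λ.real⁻¹ (fun i => ((e v) i : ℂ)) = qf Λ.real (fun i => (v i : ℂ)) := by
    intro v
    rw [qf_intCast, qf_intCast, Complex.ofReal_inj]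
    have h1 : (fun i => ((e v) i : ℝ)) = Λ.real *ᵥ fun i => (v i : ℝ) := intCast_mulVec Λ.gram v
    rw [h1]
    exact rqf_inv_mulVec Λ.real_posDef _
  have key : ∀ σ : ℂ, 0 < σ.im → Λ.thetaFun σ = c / σ ^ 12 * Λ.thetaFun (-1 / σ) := by
    intro σ hσ
    rw [thetaFun, thetaFun, hc σ hσ 0]
    congr 1
    · rw [sqrt_pow_twentyFour]
    · rw [← e.tsum_eq]
      refine tsum_congr fun v => ?_
      rw [term]
      congr 1
      simp only [Pi.zero_apply, zero_add, zero_mul, Finset.sum_const_zero, mul_zero, add_zero, hdual]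
      ring
  have hc1 : c = 1 := by
    have h := key I (by norm_num)
    rw [show -1 / I = I by rw [div_I]; simp, show I ^ 12 = 1 by
      rw [show (12 : ℕ) = 4 * 3 from rfl, pow_mul, I_pow_four, one_pow], div_one] at h
    have hne : Λ.thetaFun I ≠ 0 := by
      have e1 : ∀ x, term Λ.real I 0 x = ((rexp (-π * rqf Λ.real fun i => (x i : ℝ)) : ℝ) : ℂ) := by
        intro x
        rw [term, qf_intCast, Complex.ofReal_exp]
        congr 1
        simp only [Pi.zero_apply, zero_mul, Finset.sum_const_zero, mul_zero, add_zero]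
        push_cast
        linear_combination ((π : ℂ) * (rqf Λ.real fun i => (x i : ℝ) : ℂ)) * Complex.I_mul_I
      rw [thetaFun, tsum_congr e1, ← Complex.ofReal_tsum, Complex.ofReal_ne_zero]
      refine (Summable.tsum_pos ?_ (fun x => (Real.exp_pos _).le) 0 (Real.exp_pos _)).ne'
      have := summable_norm_term Λ.real_posDef (τ := I) (by norm_num) 0
      simpa [norm_term] using this
    exact (mul_eq_right₀ hne).1 h.symm
  have h0 : τ ≠ 0 := fun e => by simp [e] at hτ
  rw [key τ hτ, hc1]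
  field_simp

theorem periodic (τ : ℂ) : Λ.thetaFun (τ + 1) = Λ.thetaFun τ := by
  rw [thetaFun, thetaFun]
  refine tsum_congr fun x => ?_
  rw [term_eq, term_eq]
  congr 1
  simp [Function.Periodic.qParam, mul_add, Complex.exp_add]

theorem slash_S : Λ.theta ∣[(12 : ℤ)] ModularGroup.S = Λ.theta := by
  funext z
  rw [SL_slash_apply, ModularGroup.denom_S, UpperHalfPlane.modular_S_smul]
  show Λ.thetaFun ((-(z : ℂ))⁻¹) * (z : ℂ) ^ (-(12 : ℤ)) = Λ.thetaFun z
  rw [show (-(z : ℂ))⁻¹ = -1 / (z : ℂ) by ring, Λ.transform _ z.im_pos]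
  have := z.ne_zero
  field_simp

theorem slash_T : Λ.theta ∣[(12 : ℤ)] ModularGroup.T = Λ.theta := by
  funext z
  rw [SL_slash_apply, UpperHalfPlane.modular_T_smul,
    show UpperHalfPlane.denom ((ModularGroup.T : SL(2, ℤ)) : GL (Fin 2) ℝ) (z : ℂ) = 1 by
      simp [UpperHalfPlane.denom, ModularGroup.coe_T]]
  simp [theta, UpperHalfPlane.coe_vadd, add_comm (1 : ℂ), Λ.periodic]

theorem differentiableOn_thetaFun : DifferentiableOn ℂ Λ.thetaFun {τ | 0 < τ.im} := by
  intro τ hτ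
  obtain ⟨δ, hδ0, hδ⟩ := exists_lower Λ.real_posDef
  have hT : 0 < τ.im / 2 := half_pos hτ
  have hopen : IsOpen {σ : ℂ | τ.im / 2 < σ.im} := isOpen_lt continuous_const Complex.continuous_im
  have h : DifferentiableOn ℂ Λ.thetaFun {σ : ℂ | τ.im / 2 < σ.im} :=
    differentiableOn_tsum_of_summable_norm (summable_bound hδ0 hT 0)
      (fun x => (by unfold term qf; fun_prop : Differentiable ℂ fun σ => term Λ.real σ 0 x).differentiableOn)
      hopen fun x σ hσ => norm_term_le hδ0 hδ hT (le_of_lt hσ) (fun i => by simp) x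
  exact (h.differentiableAt (hopen.mem_nhds (show τ.im / 2 < τ.im from half_lt_self hτ))).differentiableWithinAt

/-- The theta series as a modular form. -/
noncomputable def thetaForm : ModularForm 𝒮ℒ 12 where
  toFun := Λ.theta
  slash_action_eq' A hA := by
    obtain ⟨A, rfl⟩ := hA
    exact SlashInvariantForm.slash_action_generators_SL2Z Λ.slash_S Λ.slash_T A
  holo' := by
    rw [UpperHalfPlane.mdifferentiable_iff]
    refine Λ.differentiableOn_thetaFun.congr fun z hz => ?_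
    simp [theta, ofComplex_apply_of_im_pos hz]
  bdd_at_cusps' {c} hc := by
    rw [Subgroup.IsArithmetic.isCusp_iff_isCusp_SL2Z] at hc
    rw [OnePoint.isBoundedAt_iff_forall_SL2Z hc]
    intro γ _
    rw [SlashInvariantForm.slash_action_generators_SL2Z Λ.slash_S Λ.slash_T γ]
    exact UpperHalfPlane.isBoundedAtImInfty_of_hasSum_qExpansion one_pos Λ.hasSum_theta

theorem coeff_thetaForm (m : ℕ) :
    (qExpansion 1 Λ.thetaForm).coeff m = ({x : Fin 24 → ℤ | Λ.height x = m}.ncard : ℂ) :=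
  (ModularFormClass.qExpansion_coeff_unique one_pos one_mem_strictPeriods_SL
    (f := Λ.thetaForm) Λ.hasSum_theta m).symm

theorem level_zero : {x : Fin 24 → ℤ | Λ.height x = 0}.ncard = 1 := by
  rw [Set.ncard_eq_one]
  refine ⟨0, ?_⟩
  ext x
  rw [Set.mem_ofPred_eq, Set.mem_singleton_iff, height_eq_iff]
  refine ⟨fun h => ?_, fun h => by simp [h]⟩
  by_contra hne
  have := Λ.pos x hne
  omega

theorem counts (h2 : ∀ x : Fin 24 → ℤ, x ⬝ᵥ (Λ.gram *ᵥ x) ≠ 2) :
    {x : Fin 24 → ℤ | Λ.height x = 2}.ncard = 196560 ∧ {x : Fin 24 → ℤ | Λ.height x = 3}.ncard = 16773120 ∧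
      {x : Fin 24 → ℤ | Λ.height x = 4}.ncard = 398034000 := by
  let A : ModularForm 𝒮ℒ 12 := ModularForm.mcast (by decide) (E₄.pow 3)
  let C : ModularForm 𝒮ℒ 12 := ModularForm.mcast (by decide) (E₆.pow 2)
  let g : ModularForm 𝒮ℒ 12 := Λ.thetaForm - (7 / 12 : ℂ) • A - (5 / 12 : ℂ) • C
  have hg : qExpansion 1 g = qExpansion 1 Λ.thetaForm -
      (7 / 12 : ℂ) • (qExpansion 1 E₄ * qExpansion 1 E₄ * qExpansion 1 E₄) -
      (5 / 12 : ℂ) • (qExpansion 1 E₆ * qExpansion 1 E₆) := by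
    rw [show (g : ℍ → ℂ) = ⇑(Λ.thetaForm - (7 / 12 : ℂ) • A) - ⇑((5 / 12 : ℂ) • C) from rfl,
      ModularForm.qExpansion_sub one_pos one_mem_strictPeriods_SL,
      show ⇑(Λ.thetaForm - (7 / 12 : ℂ) • A) = ⇑Λ.thetaForm - ⇑((7 / 12 : ℂ) • A) from rfl,
      ModularForm.qExpansion_sub one_pos one_mem_strictPeriods_SL, FunLike.coe_smul, FunLike.coe_smul,
      ModularForm.qExpansion_smul one_pos one_mem_strictPeriods_SL,
      ModularForm.qExpansion_smul one_pos one_mem_strictPeriods_SL]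
    simp only [A, C, coe_mcast, ModularForm.qExpansion_pow one_pos one_mem_strictPeriods_SL, pow_succ, pow_zero,
      one_mul]
  have b4 : bernoulli 4 = -1 / 30 := by decide +kernel
  have b6 : bernoulli 6 = 1 / 42 := by decide +kernel
  have a : ∀ m, (qExpansion 1 E₄).coeff m = if m = 0 then 1 else (240 : ℂ) * (ArithmeticFunction.sigma 3 m) := by
    intro m
    rw [show E₄ = E (k := 4) (by norm_num) from rfl, E_qExpansion_coeff _ ⟨2, rfl⟩, b4]
    norm_num
  have c : ∀ m, (qExpansion 1 E₆).coeff m = if m = 0 then 1 else (-504 : ℂ) * (ArithmeticFunction.sigma 5 m) := by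
    intro m
    rw [show E₆ = E (k := 6) (by norm_num) from rfl, E_qExpansion_coeff _ ⟨3, rfl⟩, b6]
    norm_num
  have h1 : {x : Fin 24 → ℤ | Λ.height x = 1} = ∅ := by
    ext x
    simp only [Set.mem_ofPred_eq, Set.mem_empty_iff_false, iff_false, height_eq_iff]
    simpa using h2 x
  have s1 : ∀ k, ArithmeticFunction.sigma k 1 = 1 := fun k => by simp [ArithmeticFunction.sigma_apply]
  have s32 : ArithmeticFunction.sigma 3 2 = 9 := by decide +kernel
  have s33 : ArithmeticFunction.sigma 3 3 = 28 := by decide +kernel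
  have s34 : ArithmeticFunction.sigma 3 4 = 73 := by decide +kernel
  have s52 : ArithmeticFunction.sigma 5 2 = 33 := by decide +kernel
  have s53 : ArithmeticFunction.sigma 5 3 = 244 := by decide +kernel
  have s54 : ArithmeticFunction.sigma 5 4 = 1057 := by decide +kernel
  have hg0 : g = 0 := by
    refine ModularForm.sturm_bound_levelOne ?_
    have h : ((2 : ℕ) : ℕ∞) ≤ (qExpansion 1 g).order := by
      refine PowerSeries.nat_le_order _ 2 fun i hi => ?_
      rw [hg]
      interval_cases i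
      · norm_num [PowerSeries.coeff_mul, Finset.Nat.antidiagonal_succ, coeff_thetaForm, level_zero, a, c,
          -PowerSeries.coeff_zero_eq_constantCoeff]
      · norm_num [PowerSeries.coeff_mul, Finset.Nat.antidiagonal_succ, coeff_thetaForm, h1, a, c, s1,
          -PowerSeries.coeff_zero_eq_constantCoeff]
    refine lt_of_lt_of_le ?_ h
    exact_mod_cast (show ((12 : ℤ).toNat / 12 : ℕ) < 2 by decide)
  rw [hg0, FunLike.coe_zero, UpperHalfPlane.qExpansion_zero] at hg
  have hm : ∀ m, ({x : Fin 24 → ℤ | Λ.height x = m}.ncard : ℂ) =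
      ((7 / 12 : ℂ) • (qExpansion 1 E₄ * qExpansion 1 E₄ * qExpansion 1 E₄) +
      (5 / 12 : ℂ) • (qExpansion 1 E₆ * qExpansion 1 E₆)).coeff m := by
    intro m
    rw [← coeff_thetaForm]
    congr 1
    rw [← sub_eq_zero, hg]
    abel
  refine ⟨?_, ?_, ?_⟩
  · have := hm 2
    norm_num [PowerSeries.coeff_mul, Finset.Nat.antidiagonal_succ, a, c, s1, s32, s52,
      -PowerSeries.coeff_zero_eq_constantCoeff] at this
    exact_mod_cast this
  · have := hm 3
    norm_num [PowerSeries.coeff_mul, Finset.Nat.antidiagonal_succ, a, c, s1, s32, s52, s33, s53,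
      -PowerSeries.coeff_zero_eq_constantCoeff] at this
    exact_mod_cast this
  · have := hm 4
    norm_num [PowerSeries.coeff_mul, Finset.Nat.antidiagonal_succ, a, c, s1, s32, s52, s33, s53, s34, s54,
      -PowerSeries.coeff_zero_eq_constantCoeff] at this
    exact_mod_cast this

end EvenUnimodular

end CfsgLib.Theta
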